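import Cfsg.Agent.N2.Tool
import Cfsg.Agent.TH.Own.AmbCan
import Cfsg.Agent.H463.RegUnip
import Cfsg.Agent.H979.LieSplit
import Cfsg.Agent.S0320
import Cfsg.Agent.Lib.Cores

/-!
# N2 (S3519): the parabolic case (helper48)

* `Uq p T` : some element of `T` lies in only one Sylow `p`-subgroup; `uq_of_split`, `uq_of_lie`;
* `Bor p A` : `A` contains the normaliser of a Sylow `p`-subgroup; `good_of_bor : Uq p T → Bor p A → Good A`;
* `good_of_par`, `good_of_norm`, `good_of_inv`, `good_of_index` : `T` simple of Lie type in characteristic `p`,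
  `MI A Γ` and `O_p(A) ≠ 1` (or `|T : A|` prime to `p`) give `Good A`.
-/

set_option autoImplicit false

namespace Cfsg.Agent.N2.Par

open Cfsg Subgroup Cfsg.Agent.FP3

/-- some element lies in only one Sylow `p`-subgroup -/
def Uq (p : ℕ) (T : Type*) [Group T] : Prop := ∃ (z : T) (Q : Sylow p T), z ∈ Q ∧ ∀ Q' : Sylow p T, z ∈ Q' → Q' = Q

/-- `A` contains the normaliser of a Sylow `p`-subgroup -/
def Bor (p : ℕ) {T : Type*} [Group T] (A : Subgroup T) : Prop :=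
  ∃ Q : Sylow p T, normalizer ((Q : Subgroup T) : Set T) ≤ A

section gen

variable {T : Type*} [Group T] [Finite T] {p : ℕ} [Fact p.Prime]

omit [Finite T] [Fact p.Prime] in
theorem mem_smul {Q : Sylow p T} {g z : T} : z ∈ g • Q ↔ g⁻¹ * z * g ∈ Q := by
  show z ∈ ((g • Q : Sylow p T) : Subgroup T) ↔ _ ∈ (Q : Subgroup T)
  rw [Sylow.coe_subgroup_smul, mem_pointwise_smul_iff_inv_smul_mem]
  simp

theorem Uq.at (h : Uq p T) (Q : Sylow p T) : ∃ z ∈ Q, ∀ Q' : Sylow p T, z ∈ Q' → Q' = Q := by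
  obtain ⟨z, Q₀, hz, hu⟩ := h
  obtain ⟨g, rfl⟩ := MulAction.exists_smul_eq T Q₀ Q
  refine ⟨g * z * g⁻¹, mem_smul.2 (by simpa [mul_assoc] using hz), fun Q' hQ' => ?_⟩
  rw [← hu (g⁻¹ • Q') (mem_smul.2 (by simpa using hQ')), smul_inv_smul]

/-- an element in only one Sylow subgroup `Q` fixes only one coset of an overgroup of `N(Q)` -/
theorem fx_le_one_of {A : Subgroup T} {Q : Sylow p T} (hN : normalizer ((Q : Subgroup T) : Set T) ≤ A) {z : T}
    (hz : z ∈ Q) (hu : ∀ Q' : Sylow p T, z ∈ Q' → Q' = Q) : fx A z ≤ 1 := by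
  refine fx_le_one fun t ht => ?_
  have hQA : (Q : Subgroup T) ≤ A := le_normalizer.trans hN
  have hp : IsPGroup p (zpowers (⟨t⁻¹ * z * t, ht⟩ : A)) := by
    have h1 : IsPGroup p ((t⁻¹ • Q : Sylow p T) : Subgroup T) := (t⁻¹ • Q).isPGroup'
    refine (h1.comap_of_injective A.subtype A.subtype_injective).to_le (zpowers_le.2 ?_)
    exact (mem_smul (Q := Q) (g := t⁻¹)).2 (by simpa [mul_assoc] using hz)
  obtain ⟨R, hR⟩ := hp.exists_le_sylow
  obtain ⟨a, rfl⟩ := MulAction.exists_smul_eq A (Q.subtype hQA) R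
  have h2 := mem_smul.1 (hR (mem_zpowers _))
  have h3 : (t * a)⁻¹ * z * (t * a) ∈ Q := by
    have h4 : (a : T)⁻¹ * (t⁻¹ * z * t) * a ∈ Q := h2
    simpa [mul_assoc] using h4
  have h5 := Sylow.smul_eq_iff_mem_normalizer.1 (hu _ (mem_smul.2 h3))
  exact (A.mul_mem_cancel_right a.2).1 (hN h5)

theorem good_of_bor (h : Uq p T) {A : Subgroup T} (hA : Bor p A) : Good A := by
  obtain ⟨Q, hQ⟩ := hA
  obtain ⟨z, hz, hu⟩ := h.at Q
  exact good_of_one (hQ (le_normalizer hz)) (fx_le_one_of hQ hz hu)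

end gen

section bldg

open CoxeterSystem Cfsg.Agent.Tits.Core Cfsg.Agent.Tits.Core.Bldg Cfsg.Agent.Tits.OppRes Cfsg.Agent.FixBN
  Cfsg.Agent.H463.RegUnip

/-- a regular unipotent element fixes only one chamber -/
theorem exists_reg {I : Type*} {M : CoxeterMatrix I} {W : Type*} [Group W] {cs : CoxeterSystem M W} {C : Type*}
    {Δ : Bldg cs C} {G : Type*} [Group G] [MulAction G C] {p : ℕ} [F : Cox cs] [Finite I] (S : Sys Δ G p)
    (hth : Δ.Thick) {x₀ y₀ : C} (hxy : Δ.Opp x₀ y₀) : ∃ z ∈ S.U x₀, ∀ y, z • y = y → y = x₀ := by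
  classical
  have hnear : ∀ i, ∃ y₁, Δ.δ x₀ y₁ = cs.simple i ∧ Δ.δ y₀ y₁ = w0 cs * cs.simple i := by
    intro i
    obtain ⟨y₁, h1, h2⟩ := Δ.exists_step y₀ x₀ i
    refine ⟨y₁, h1, ?_⟩
    have hxy' : Δ.δ x₀ y₀ = w0 cs := hxy
    rw [h2, Δ.symm x₀ y₀, hxy', F.w0_inv]
  choose y₁ hy1 hy1' using hnear
  have hb : ∀ i, ∃ u ∈ S.U x₀, u • y₁ i ≠ y₁ i ∧ ∀ j, j ≠ i → ∀ d ∈ Δ.Pan j x₀, u • d = d := by
    intro i
    obtain ⟨a, b, hab, ha, hb⟩ := hth x₀ i
    obtain ⟨u, hu, hua, hu2⟩ := exists_indep S hxy (hy1 i) (hy1' i) ha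
    obtain ⟨v, hv, hvb, hv2⟩ := exists_indep S hxy (hy1 i) (hy1' i) hb
    by_cases h : u • y₁ i = y₁ i
    · exact ⟨v, hv, fun k => hab (hua.symm.trans (h.trans (k.symm.trans hvb))), hv2⟩
    · exact ⟨u, hu, h, hu2⟩
  choose b hbU hbi hbj using hb
  have key : ∀ s : Finset I, ∃ z ∈ S.U x₀, ∀ i ∈ s, z • y₁ i ≠ y₁ i := by
    intro s
    induction s using Finset.induction_on with
    | empty => exact ⟨1, one_mem _, fun i hi => absurd hi (Finset.notMem_empty i)⟩
    | insert j s hj ih =>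
      obtain ⟨z, hz, hs⟩ := ih
      by_cases h : z • y₁ j = y₁ j
      · refine ⟨b j * z, mul_mem (hbU j) hz, fun i hi => ?_⟩
        rcases Finset.mem_insert.1 hi with rfl | hi
        · rw [mul_smul, h]
          exact hbi i
        · have h1 : z • y₁ i ∈ Δ.Pan i x₀ := by
            refine Or.inr ?_
            conv_lhs => rw [← S.fix x₀ z hz]
            rw [S.iso, hy1]
          rw [mul_smul, hbj j i (fun k => hj (k ▸ hi)) _ h1]
          exact hs i hi
      · refine ⟨z, hz, fun i hi => ?_⟩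
        rcases Finset.mem_insert.1 hi with rfl | hi
        exacts [h, hs i hi]
  have := Fintype.ofFinite I
  obtain ⟨z, hz, hs⟩ := key Finset.univ
  exact ⟨z, hz, fun y hy => eq_of_reg S.iso (S.fix x₀ z hz)
    (fun i c hc k => hs i (Finset.mem_univ i) (S.pan x₀ c i hc z hz k _ (Or.inr (hy1 i)))) hy⟩

end bldg

section split

open Cfsg.Agent.LieExceptional.BNPairCore Cfsg.Agent.Tits.Core Cfsg.Agent.Tits.Core.Bldg Cfsg.Agent.Tits.OfBN
  Cfsg.Agent.Schreier.BNSch Cfsg.Agent.Tits.OppRes Cfsg.Agent.FixBN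

variable {K : Type*} [Group K] [Finite K] {p : ℕ} [hp : Fact p.Prime]

/-- **Regular unipotent elements lie in only one Sylow subgroup.** -/
theorem uq_of_split (h : HasSplit p K) : Uq p K := by
  obtain ⟨P, U, -, h⟩ := h
  have hN : ((P.B ⊓ P.N).subgroupOf P.N).Normal := normal_subgroupOf P
  obtain ⟨M, cs, hcs'⟩ := S0320.result P
  have hcs : ∀ i, cs.simple i = QuotientGroup.mk (⟨((Equiv.refl P.S i : P.S) : K), P.subset (Equiv.refl P.S i).2⟩ : P.N) :=
    hcs'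
  have hI : Finite P.S := OfBN.finite_I (Equiv.refl P.S)
  have hW : Finite (WP P) := inferInstance
  let Δ := bldg P (Equiv.refl P.S) cs hcs
  let Sy := OfBN.sys (Equiv.refl P.S) cs hcs h
  have F : Cox cs := inferInstance
  obtain ⟨n, hn⟩ := QuotientGroup.mk_surjective (w0 cs)
  have hopp : Δ.Opp (QuotientGroup.mk 1) (QuotientGroup.mk (n : K)) := by
    show Δ.δ (QuotientGroup.mk 1) (QuotientGroup.mk (n : K)) = w0 cs
    rw [show Δ.δ (QuotientGroup.mk 1) (QuotientGroup.mk (n : K)) = wt P (1⁻¹ * (n : K)) from bldg_δ_mk _ _ _ _ _ _,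
      inv_one, one_mul, wt_of_mem P (self_mem_C (n : K)), hn]
  obtain ⟨z, hz, hfix⟩ := exists_reg Sy (thick P (Equiv.refl P.S) cs hcs) hopp
  have hz' : z ∈ OfBN.UU P U (QuotientGroup.mk 1) := hz
  have key : ∀ Q : Sylow p K, z ∈ Q → (Q : Subgroup K) = OfBN.UU P U (QuotientGroup.mk 1) := by
    intro Q hQ
    obtain ⟨y, hy⟩ := OfBN.exists_fix h (Q : Subgroup K) Q.isPGroup'
    have h1 : y = QuotientGroup.mk 1 := hfix y (hy z hQ)
    subst h1
    have h2 := OfBN.max h _ (Q : Subgroup K) Q.isPGroup' hy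
    exact (Q.3 (OfBN.isP h _) h2).symm
  have hzp : IsPGroup p (Subgroup.zpowers z) :=
    (OfBN.isP h (QuotientGroup.mk 1)).to_le (by rw [Subgroup.zpowers_le]; exact hz')
  obtain ⟨Q, hQ⟩ := hzp.exists_le_sylow
  refine ⟨z, Q, hQ (Subgroup.mem_zpowers z), fun Q' hQ' => ?_⟩
  exact Sylow.ext ((key Q' hQ').trans (key Q (hQ (Subgroup.mem_zpowers z))).symm)

theorem uq_of_lie [IsSimpleGroup K] (h : IsLieTypeChar p K) : Uq p K :=
  uq_of_split (H979.LieSplit.hasSplit_of_isLieTypeChar hp.1 h)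

/-- **overgroups of Borel subgroups** (no maximality needed) -/
theorem good_of_borel [IsSimpleGroup K] (h : IsLieTypeChar p K) {A : Subgroup K} (Q : Sylow p K)
    (hQ : normalizer ((Q : Subgroup K) : Set K) ≤ A) : Good A := good_of_bor (uq_of_lie h) ⟨Q, hQ⟩

end split

section psys

open Cfsg.Agent.H737.EPO Cfsg.Agent.H424.EPX

variable {p : ℕ} [Fact p.Prime] {Y : Type} [Group Y] [Finite Y] [IsSimpleGroup Y] {I : Type} {A : Subgroup Y}
  {Γ : Subgroup (MulAut Y)}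

omit [IsSimpleGroup Y] in
theorem bor_of_le (S : PSys Y p I) {g : Y} {J : Set I} (h : H284.cj g (S.P J) ≤ A) : Bor p A := by
  let P : Sylow p Y := ⟨S.V ∅, S.U_p, fun {T} hT hle => S.U_max T hle hT⟩
  refine ⟨g • P, le_trans ?_ ((H284.cj_mono (S.P_mono (Set.empty_subset J))).trans h)⟩
  rw [← S.U_norm]
  exact (map_equiv_normalizer_eq (S.V ∅) (MulAut.conj g)).ge

omit [IsSimpleGroup Y] [Finite Y] [Fact p.Prime] in
theorem cj_ne_top (S : PSys Y p I) (g : Y) {J : Set I} (h : J ≠ Set.univ) : H284.cj g (S.P J) ≠ ⊤ := fun k =>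
  S.P_ne_top h (eq_top_iff.2 fun x _ => by
    have h1 : g * x * g⁻¹ ∈ H284.cj g (S.P J) := k ▸ mem_top _
    simpa [mul_assoc] using H284.mem_cj.1 h1)

theorem bor_of_inv' (S : PSys Y p I) (hc : CanV S) (h : MI A Γ) {E : Subgroup Y} (hi : Inv Γ E) (hE : IsPGroup p E)
    (h1 : E ≠ ⊥) : Bor p A := by
  obtain ⟨J, g, hJ, h2, h3⟩ := hc E hE h1
  have h4 := mi_norm h (E := H284.cj g (S.V J)) (fun σ hσ => h3 σ (hi σ hσ)) (fun k => h1 (le_bot_iff.1 (k ▸ h2)))
    fun k => cj_ne_top S g hJ (eq_top_iff.2 (k.ge.trans (H284.cj_mono (S.V_le J))))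
  exact bor_of_le S (g := g) (J := J) (h4 ▸ (H284.cj_mono (S.V_norm J)).trans (le_normalizer_map _))

theorem bor_of_V (S : PSys Y p I) (h : MI A Γ) {J : Set I} (hJ : J ≠ Set.univ) {g : Y} (hV : H284.cj g (S.V J) ≤ A) :
    Bor p A := by
  obtain ⟨J', g', hJ', h2, h3⟩ := S.canon h.ne_top hJ hV
  exact bor_of_le S (mi_eq h (fun σ hσ => h3 σ (mi_inv h σ hσ)) h2 (cj_ne_top S g' hJ')).le

theorem bor_of_index' (S : PSys Y p I) (hn : ¬ IsMulCommutative Y) (h : MI A Γ) (hp : p ∣ Nat.card Y)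
    (hi : ¬ p ∣ A.index) : Bor p A := by
  let P : Sylow p Y := ⟨S.V ∅, S.U_p, fun {T} hT hle => S.U_max T hle hT⟩
  obtain ⟨R⟩ : Nonempty (Sylow p A) := inferInstance
  have h1 : ¬ p ∣ ((R : Subgroup A).map A.subtype).index := by
    rw [index_map_subtype]
    exact fun k => ((Fact.out : p.Prime).dvd_mul.1 k).elim R.not_dvd_index hi
  obtain ⟨Q, hQ⟩ := (R.isPGroup'.map A.subtype).exists_le_sylow
  have h2 : (Q : Subgroup Y) ≤ A := by
    refine le_trans (relIndex_eq_one.1 ?_) (map_subtype_le (R : Subgroup A))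
    obtain ⟨k, hk⟩ := Q.isPGroup'.index (((R : Subgroup A).map A.subtype).subgroupOf Q)
    rcases k with _ | k
    · exact hk
    · exact absurd ((dvd_pow_self p k.succ_ne_zero).trans (hk.symm.dvd.trans (relIndex_dvd_index_of_le hQ))) h1
  obtain ⟨g, rfl⟩ := MulAction.exists_smul_eq Y P Q
  refine bor_of_V S h (J := ∅) (fun k => ?_) (g := g) h2
  have h3 : (S.V ∅).Normal := normalizer_eq_top_iff.1 (by rw [S.U_norm, k, S.P_univ])
  rcases h3.eq_bot_or_eq_top with h4 | h4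
  · exact P.ne_bot_of_dvd_card hp h4
  · have h5 : IsPGroup p Y := (h4 ▸ S.U_p : IsPGroup p (⊤ : Subgroup Y)).of_equiv topEquiv
    have := h5.isNilpotent
    exact hn ⟨⟨IsSimpleGroup.comm_iff_isSolvable.2 inferInstance⟩⟩

end psys

section main

variable {p : ℕ} [Fact p.Prime] {T : Type} [Group T] [Finite T] [IsSimpleGroup T] {A : Subgroup T}
  {Γ : Subgroup (MulAut T)}

omit [IsSimpleGroup T] in
theorem bor_congr {Y : Type} [Group Y] [Finite Y] (e : Y ≃* T) (h : Bor p (A.comap e.toMonoidHom)) : Bor p A := by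
  obtain ⟨Q, hQ⟩ := h
  refine ⟨Q.mapSurjective (f := e.toMonoidHom) e.surjective, le_trans ?_ (map_le_iff_le_comap.2 hQ)⟩
  exact (map_equiv_normalizer_eq (Q : Subgroup Y) e).ge

omit [Finite T] [IsSimpleGroup T] in
theorem exists_ne (hn : ¬ IsMulCommutative T) : ∃ a b : T, a * b ≠ b * a := by
  by_contra h1
  exact hn ⟨⟨fun a b => by_contra fun h2 => h1 ⟨a, b, h2⟩⟩⟩

/-- Borel–Tits: an invariant `p`-subgroup `E ≠ 1` makes `A` parabolic -/
theorem bor_of_inv (hn : ¬ IsMulCommutative T) (hT : IsLieTypeChar p T) (h : MI A Γ) {E : Subgroup T} (hi : Inv Γ E)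
    (hE : IsPGroup p E) (h1 : E ≠ ⊥) : Bor p A := by
  obtain ⟨Y, _, _, I, S, e, hS⟩ := TH.Own.Am.hasCan_of_lie (exists_ne hn) hT
  have : IsSimpleGroup Y := e.isSimpleGroup
  refine bor_congr e (bor_of_inv' S hS (mi_comap e h) (E := E.comap e.toMonoidHom) (fun σ hσ x hx => ?_)
    (hE.comap_of_injective _ e.injective) fun k => h1 ?_)
  · have h2 := hi _ hσ _ hx
    show e (σ x) ∈ E
    simpa using h2
  · rw [← map_comap_eq_self_of_surjective (f := e.toMonoidHom) e.surjective E, k, Subgroup.map_bot]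

theorem bor_of_par (hn : ¬ IsMulCommutative T) (hT : IsLieTypeChar p T) (h : MI A Γ) (hO : pCore p A ≠ ⊥) :
    Bor p A :=
  have := Lib.Cores.pCore_characteristic (G := A) p
  bor_of_inv hn hT h (mi_char h (pCore p A)) ((Lib.Cores.pCore_isPGroup p).map _)
    fun k => hO ((map_eq_bot_iff_of_injective _ A.subtype_injective).1 k)

omit [IsSimpleGroup T] in
theorem pCore_ne_bot {E : Subgroup T} (hE : IsPGroup p E) (h1 : E ≠ ⊥) (hle : E ≤ A)
    (hN : A ≤ normalizer (E : Set T)) : pCore p A ≠ ⊥ := fun k => by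
  have h2 : (E.subgroupOf A).Normal := ⟨fun w hw v => (mem_normalizer_iff.1 (hN v.2) w).1 hw⟩
  have h3 := Lib.Cores.le_pCore h2 (hE.comap_of_injective _ A.subtype_injective)
  rw [k, le_bot_iff] at h3
  exact h1 (by rw [← map_subgroupOf_eq_of_le hle, h3, Subgroup.map_bot])

theorem dvd_card (hT : IsLieTypeChar p T) : p ∣ Nat.card T := by
  obtain ⟨P, U, ⟨s, hs⟩, h⟩ := H979.LieSplit.hasSplit_of_isLieTypeChar (Fact.out : p.Prime) hT
  obtain ⟨V, hV⟩ := h.node s hs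
  obtain ⟨u, hu, huV⟩ := hV.ne
  obtain ⟨k, hk⟩ := IsPGroup.iff_card.1 h.isP
  rcases k with _ | k
  · rw [pow_zero, card_eq_one] at hk
    rw [hk, mem_bot] at hu
    exact absurd (hu ▸ V.one_mem) huV
  · exact (dvd_pow_self p k.succ_ne_zero).trans (hk ▸ card_subgroup_dvd_card U)

theorem bor_of_index (hn : ¬ IsMulCommutative T) (hT : IsLieTypeChar p T) (h : MI A Γ) (hi : ¬ p ∣ A.index) :
    Bor p A := by
  obtain ⟨Y, _, _, I, S, e, -⟩ := TH.Own.Am.hasCan_of_lie (exists_ne hn) hT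
  have : IsSimpleGroup Y := e.isSimpleGroup
  refine bor_congr e (bor_of_index' S (fun k => hn ⟨⟨fun a b => e.symm.injective ?_⟩⟩) (mi_comap e h)
    (Nat.card_congr e.toEquiv ▸ dvd_card hT) (by rwa [index_comap_of_surjective A e.surjective]))
  rw [map_mul, map_mul]
  exact k.is_comm.comm _ _

/-- **the parabolic case**: `O_p(A) ≠ 1` -/
theorem good_of_par (hn : ¬ IsMulCommutative T) (hT : IsLieTypeChar p T) (h : MI A Γ) (hO : pCore p A ≠ ⊥) :
    Good A := good_of_bor (uq_of_lie hT) (bor_of_par hn hT h hO)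

/-- `A` has a normal `p`-subgroup `E ≠ 1` -/
theorem good_of_norm (hn : ¬ IsMulCommutative T) (hT : IsLieTypeChar p T) (h : MI A Γ) {E : Subgroup T}
    (hE : IsPGroup p E) (h1 : E ≠ ⊥) (hle : E ≤ A) (hN : A ≤ normalizer (E : Set T)) : Good A :=
  good_of_par hn hT h (pCore_ne_bot hE h1 hle hN)

/-- there is a `Γ`-invariant `p`-subgroup `E ≠ 1` -/
theorem good_of_inv (hn : ¬ IsMulCommutative T) (hT : IsLieTypeChar p T) (h : MI A Γ) {E : Subgroup T} (hi : Inv Γ E)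
    (hE : IsPGroup p E) (h1 : E ≠ ⊥) : Good A := good_of_bor (uq_of_lie hT) (bor_of_inv hn hT h hi hE h1)

/-- `A` contains a Sylow `p`-subgroup of `T` -/
theorem good_of_index (hn : ¬ IsMulCommutative T) (hT : IsLieTypeChar p T) (h : MI A Γ) (hi : ¬ p ∣ A.index) :
    Good A := good_of_bor (uq_of_lie hT) (bor_of_index hn hT h hi)

/-- **reduction of a row**: one may assume `O_p(A) = 1` and `p ∣ |T : A|` -/
theorem asRow_of (hn : ¬ IsMulCommutative T) (hT : IsLieTypeChar p T)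
    (h : ∀ (A : Subgroup T) (Γ : Subgroup (MulAut T)), MI A Γ → pCore p A = ⊥ → p ∣ A.index → Good A) : ASRow T :=
  fun A Γ hA => by
    by_cases h1 : pCore p A = ⊥
    · by_cases h2 : p ∣ A.index
      exacts [h A Γ hA h1 h2, good_of_index hn hT hA h2]
    · exact good_of_par hn hT hA h1

end main

end Cfsg.Agent.N2.Par
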